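import Groth.Agent.GLForms.Singular
import Mathlib.RingTheory.Polynomial.Basic
import Mathlib.Analysis.Complex.Polynomial.Basic
import Mathlib.LinearAlgebra.Dimension.Finrank

/-!
Lines on a smooth cubic threefold meeting two incident lines.
-/

set_option autoImplicit false
set_option linter.unusedSectionVars false

open MvPolynomial

noncomputable section

namespace Groth.Agent.CubicLines

variable {k : Type} [Field k] {σ : Type} [Fintype σ]

/-- Restriction of a polynomial to a parametrised line. -/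
def onLine (f : MvPolynomial σ k) (v d : σ → k) : Polynomial k :=
  MvPolynomial.aeval (fun i => Polynomial.C (v i) + Polynomial.C (d i) * Polynomial.X) f

theorem eval_onLine (f : MvPolynomial σ k) (v d : σ → k) (t : k) :
    (onLine f v d).eval t = MvPolynomial.eval (v + t • d) f := by
  simp only [onLine]
  induction f using MvPolynomial.induction_on with
  | C a => simp
  | add p q hp hq => simp [hp, hq]
  | mul_X p i hp => simp [hp, mul_comm t]

theorem derivative_onLine (f : MvPolynomial σ k) (v d : σ → k) :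
    (onLine f v d).derivative.eval 0 = ∑ i, d i * MvPolynomial.eval v (MvPolynomial.pderiv i f) := by
  classical
  induction f using MvPolynomial.induction_on with
  | C a => simp [onLine]
  | add p q hp hq =>
    simp only [onLine, map_add] at hp hq ⊢
    simp [hp, hq, mul_add, Finset.sum_add_distrib]
  | mul_X p i hp =>
    have h0 := eval_onLine p v d 0
    simp only [zero_smul, add_zero] at h0
    simp only [onLine] at hp h0
    have hr : ∀ a, d a * MvPolynomial.eval v (MvPolynomial.pderiv a (p * MvPolynomial.X i)) =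
        d a * MvPolynomial.eval v (MvPolynomial.pderiv a p) * v i +
          (if a = i then d a * MvPolynomial.eval v p else 0) := fun a => by
      rw [MvPolynomial.pderiv_mul, map_add, map_mul, map_mul, MvPolynomial.eval_X]
      by_cases ha : a = i
      · subst ha
        rw [MvPolynomial.pderiv_X_self, map_one, if_pos rfl]
        ring
      · rw [MvPolynomial.pderiv_X_of_ne (Ne.symm ha), map_zero, if_neg ha]
        ring
    rw [Finset.sum_congr rfl fun a _ => hr a, Finset.sum_add_distrib, ← Finset.sum_mul, ← hp,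
      Finset.sum_ite_eq' Finset.univ i, if_pos (Finset.mem_univ i), onLine, map_mul, MvPolynomial.aeval_X,
      Polynomial.derivative_mul, Polynomial.eval_add, Polynomial.eval_mul, Polynomial.eval_mul, h0]
    simp only [Polynomial.derivative_add, Polynomial.derivative_C, Polynomial.derivative_mul, Polynomial.derivative_X,
      Polynomial.eval_add, Polynomial.eval_mul, Polynomial.eval_C, Polynomial.eval_X, Polynomial.eval_zero,
      Polynomial.eval_one]
    ring

theorem natDegree_onLine {f : MvPolynomial σ k} {m : ℕ} (hf : f.IsHomogeneous m) (v d : σ → k) :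
    (onLine f v d).natDegree ≤ m := by
  refine (MvPolynomial.aeval_natDegree_le (n := 1) f hf.totalDegree_le _ fun i => ?_).trans (by omega)
  refine (Polynomial.natDegree_add_le _ _).trans (max_le (by simp) ?_)
  exact (Polynomial.natDegree_C_mul_le _ _).trans Polynomial.natDegree_X_le

/-- A cubic vanishing on four lines of a plane vanishes on the plane. -/
theorem plane_zero [Infinite k] {V : Type} [AddCommGroup V] [Module k V] (φ : (Fin 3 → k) →ₗ[k] (σ → k))
    {f : MvPolynomial σ k} (hf : f.IsHomogeneous 3) (u w : k) (huw : u ≠ 0 ∨ w ≠ 0)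
    (h0 : ∀ v : Fin 3 → k, (v 0 = 0 ∨ v 1 = 0 ∨ v 2 = 0 ∨ v 2 = u * v 0 + w * v 1) → eval (φ v) f = 0)
    (v : Fin 3 → k) : eval (φ v) f = 0 := by
  classical
  by_cases hv : v 0 = 0 ∨ v 1 = 0 ∨ v 2 = 0 ∨ v 2 = u * v 0 + w * v 1
  · exact h0 v hv
  push Not at hv
  obtain ⟨hv0, hv1, hv2, hv3⟩ := hv
  let l : Fin 4 → (Fin 3 → k) → k := ![fun x => x 0, fun x => x 1, fun x => x 2, fun x => x 2 - u * x 0 - w * x 1]
  have hlv : ∀ i, l i v ≠ 0 := by
    intro i
    fin_cases i
    · exact hv0
    · exact hv1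
    · exact hv2
    · exact fun h => hv3 (by simp [l] at h; linear_combination h)
  let d : k → Fin 3 → k := fun s => ![1, s, s ^ 2]
  -- conditions for distinct intersection points
  let A : Fin 4 → Polynomial k := ![Polynomial.C 1, Polynomial.X, Polynomial.X ^ 2,
    Polynomial.X ^ 2 - Polynomial.C u - Polynomial.C w * Polynomial.X]
  have hA : ∀ i s, (A i).eval s = l i (d s) := fun i s => by fin_cases i <;> simp [A, l, d]
  let B : Fin 4 → Fin 4 → Polynomial k := fun i j => Polynomial.C (l i v) * A j - Polynomial.C (l j v) * A i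
  let c : Fin 4 → ℕ → k := fun i n => (A i).coeff n
  have hA0 : ∀ i, A i ≠ 0 := by
    intro i h
    have h2 := congrArg (Polynomial.eval (1 : k)) h
    have e0 := congrArg (fun p : Polynomial k => p.coeff 0) h
    have e1 := congrArg (fun p : Polynomial k => p.coeff 1) h
    have e2 := congrArg (fun p : Polynomial k => p.coeff 2) h
    fin_cases i
    · simp [A] at e0
    · simp [A] at e1
    · simp [A] at e2
    · simp [A, Polynomial.coeff_C, Polynomial.coeff_X] at e2
  have hB' : ∀ i j, i < j → ¬ ∀ n, l i v * c j n = l j v * c i n := by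
    intro i j hij h
    have e0 := h 0
    have e1 := h 1
    have e2 := h 2
    fin_cases i <;> fin_cases j <;> (try exact absurd hij (by decide))
    all_goals simp [A, c, l, Polynomial.coeff_C, Polynomial.coeff_X, Polynomial.coeff_one] at e0 e1 e2
    all_goals first
      | exact hv0 e1
      | exact hv0 e2
      | exact hv1 e1
      | exact hv1 e2
      | exact hv0 e0
      | exact hv1 e0
      | exact hv0 e0.symm
      | exact hv1 e0.symm
      | exact hv0 e1.symm
      | exact hv1 e1.symm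
      | exact hv0 e2.symm
      | exact hv1 e2.symm
      | exact hv2 e0.symm
      | exact hv2 e1.symm
      | (rcases huw with hu | hw
         · exact hu (e0.resolve_left hv2)
         · exact hw (e1.resolve_left hv2))
  have hB : ∀ i j, i ≠ j → B i j ≠ 0 := by
    intro i j hij h
    have h' : ∀ n, l i v * c j n = l j v * c i n := fun n => by
      have := congrArg (fun p : Polynomial k => p.coeff n) h
      simp only [B, Polynomial.coeff_sub, Polynomial.coeff_C_mul, Polynomial.coeff_zero, sub_eq_zero] at this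
      exact this
    rcases lt_or_gt_of_ne hij with hlt | hlt
    · exact hB' i j hlt h'
    · exact hB' j i hlt fun n => (h' n).symm
  let bad : Finset k := (Finset.univ.biUnion fun i => (A i).roots.toFinset) ∪
    (Finset.univ.biUnion fun i => Finset.univ.biUnion fun j => (B i j).roots.toFinset)
  obtain ⟨s, hs⟩ := Infinite.exists_notMem_finset bad
  have hAs : ∀ i, l i (d s) ≠ 0 := fun i h => hs (Finset.mem_union_left _ (Finset.mem_biUnion.2
    ⟨i, Finset.mem_univ i, Multiset.mem_toFinset.2 ((Polynomial.mem_roots (hA0 i)).2 ((hA i s).trans h))⟩))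
  have hBs : ∀ i j, i ≠ j → l i v * l j (d s) ≠ l j v * l i (d s) := fun i j hij h =>
    hs (Finset.mem_union_right _ (Finset.mem_biUnion.2 ⟨i, Finset.mem_univ i, Finset.mem_biUnion.2
      ⟨j, Finset.mem_univ j, Multiset.mem_toFinset.2 ((Polynomial.mem_roots (hB i j hij)).2 (by
        show (B i j).eval s = 0
        simp [B, hA, h]))⟩⟩))
  let t : Fin 4 → k := fun i => - (l i v) / l i (d s)
  have ht : Function.Injective t := fun i j h => by
    by_contra hij
    refine hBs i j hij ?_
    simp only [t, div_eq_div_iff (hAs i) (hAs j)] at h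
    linear_combination -h
  have hzero : onLine f (φ v) (φ (d s)) = 0 := by
    by_contra hne
    have hroots : (Finset.univ.image t) ⊆ (onLine f (φ v) (φ (d s))).roots.toFinset := fun x hx => by
      obtain ⟨i, -, rfl⟩ := Finset.mem_image.1 hx
      rw [Multiset.mem_toFinset, Polynomial.mem_roots hne, Polynomial.IsRoot, eval_onLine, ← map_smul, ← map_add]
      refine h0 _ ?_
      have hi : l i (v + t i • d s) = 0 := by
        have e : l i (v + t i • d s) = l i v + t i * l i (d s) := by
          fin_cases i <;> simp [l] <;> ring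
        rw [e, show t i = - (l i v) / l i (d s) from rfl, div_mul_cancel₀ _ (hAs i)]
        ring
      fin_cases i
      · exact Or.inl hi
      · exact Or.inr (Or.inl hi)
      · exact Or.inr (Or.inr (Or.inl hi))
      · refine Or.inr (Or.inr (Or.inr ?_))
        simp [l] at hi ⊢
        linear_combination hi
    have h4 := (Finset.card_le_card hroots).trans ((Multiset.toFinset_card_le _).trans
      ((Polynomial.card_roots' _).trans (natDegree_onLine hf _ _)))
    rw [Finset.card_image_of_injective _ ht, Finset.card_fin] at h4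
    omega
  have := eval_onLine f (φ v) (φ (d s)) 0
  simpa [hzero] using this.symm

/-- A smooth cubic threefold contains no plane. -/
theorem no_plane (f : MvPolynomial (Fin 5) ℂ) (hf : f.IsHomogeneous 3)
    (hsm : ∀ u : Fin 5 → ℂ, u ≠ 0 → eval u f = 0 → ∃ i : Fin 5, eval u (pderiv i f) ≠ 0)
    (φ : (Fin 3 → ℂ) →ₗ[ℂ] (Fin 5 → ℂ)) (hφ : Function.Injective φ) (h0 : ∀ v, eval (φ v) f = 0) : False := by
  classical
  let P : Submodule ℂ (Fin 5 → ℂ) := LinearMap.range φ
  have hP : Module.finrank ℂ P = 3 := by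
    rw [LinearMap.finrank_range_of_inj hφ, Module.finrank_fin_fun]
  obtain ⟨Q, hQ⟩ := Submodule.exists_isCompl P
  have hQ2 : Module.finrank ℂ Q = 2 := by
    have := Submodule.finrank_add_eq_of_isCompl hQ
    rw [hP, Module.finrank_fin_fun] at this
    omega
  let b := Module.finBasisOfFinrankEq ℂ Q hQ2
  let D : (Fin 5 → ℂ) →ₗ[ℂ] MvPolynomial (Fin 5) ℂ :=
    { toFun := fun d => ∑ i, d i • pderiv i f
      map_add' := fun x y => by simp [add_smul, Finset.sum_add_distrib]
      map_smul' := fun r x => by simp [Finset.smul_sum, smul_smul] }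
  let S : MvPolynomial (Fin 5) ℂ →ₐ[ℂ] MvPolynomial (Fin 3) ℂ :=
    MvPolynomial.aeval fun i => ∑ j, C (φ (Pi.single j 1) i) * X j
  have hS : ∀ (v : Fin 3 → ℂ) (g : MvPolynomial (Fin 5) ℂ), eval v (S g) = eval (φ v) g := by
    intro v g
    have he : (fun i => eval v (∑ j, C (φ (Pi.single j 1) i) * X j)) = φ v := by
      funext i
      have hv : φ v = ∑ j, v j • φ (Pi.single j 1) := by
        conv_lhs => rw [pi_eq_sum_univ' v]
        simp [map_sum, map_smul]
      rw [hv]
      simp [Finset.sum_apply, mul_comm]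
    induction g using MvPolynomial.induction_on with
    | C a => simp [S]
    | add p q hp hq => simp [hp, hq]
    | mul_X p i hp =>
      rw [map_mul, map_mul, map_mul, hp, eval_X, ← congrFun he i]
      simp [S]
  have hDe : ∀ (v : Fin 3 → ℂ) (d : Fin 5 → ℂ), eval v (S (D d)) = ∑ i, d i * eval (φ v) (pderiv i f) := by
    intro v d
    rw [hS]
    show eval (φ v) (∑ i, d i • pderiv i f) = _
    simp [smul_eval]
  have hdP : ∀ (v w : Fin 3 → ℂ), ∑ i, φ w i * eval (φ v) (pderiv i f) = 0 := by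
    intro v w
    rw [← derivative_onLine]
    have hz : onLine f (φ v) (φ w) = 0 := Polynomial.funext fun t => by
      rw [eval_onLine, ← map_smul, ← map_add, h0, Polynomial.eval_zero]
    rw [hz, Polynomial.derivative_zero, Polynomial.eval_zero]
  have hdeg : ∀ d, eval (0 : Fin 3 → ℂ) (S (D d)) = 0 := fun d => by
    rw [hDe, map_zero]
    refine Finset.sum_eq_zero fun i _ => ?_
    have hh : (pderiv i f).IsHomogeneous 2 := hf.pderiv
    rw [show eval (0 : Fin 5 → ℂ) (pderiv i f) = 0 from ?_, mul_zero]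
    rw [MvPolynomial.eval_zero, MvPolynomial.constantCoeff_eq]
    exact hh.coeff_eq_zero (by simp)
  let T : Finset (MvPolynomial (Fin 3) ℂ) := {S (D (b 0 : Fin 5 → ℂ)), S (D (b 1 : Fin 5 → ℂ))}
  obtain ⟨y, hy, hyT⟩ := GLForms.exists_ne_zero_common_zero T
    (lt_of_le_of_lt Finset.card_le_two (by norm_num)) (fun g hg => by
      rcases Finset.mem_insert.1 hg with rfl | hg
      · exact hdeg _
      · rw [Finset.mem_singleton.1 hg]; exact hdeg _)
  obtain ⟨i, hi⟩ := hsm (φ y) (fun e => hy (hφ (e.trans (map_zero φ).symm))) (h0 y)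
  apply hi
  have hall : ∀ d : Fin 5 → ℂ, ∑ a, d a * eval (φ y) (pderiv a f) = 0 := by
    intro d
    obtain ⟨p, ⟨w, rfl⟩, q, hq, rfl⟩ := Submodule.mem_sup.1
      (hQ.sup_eq_top.symm.le (Submodule.mem_top : d ∈ (⊤ : Submodule ℂ (Fin 5 → ℂ))))
    have hq' := b.sum_repr ⟨q, hq⟩
    rw [Fin.sum_univ_two] at hq'
    have hq'' : q = b.repr ⟨q, hq⟩ 0 • (b 0 : Fin 5 → ℂ) + b.repr ⟨q, hq⟩ 1 • (b 1 : Fin 5 → ℂ) :=
      (congrArg Subtype.val hq').symm
    have e0 := hyT _ (Finset.mem_insert_self _ _)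
    have e1 := hyT _ (Finset.mem_insert_of_mem (Finset.mem_singleton_self _))
    rw [hDe] at e0 e1
    rw [hq'']
    simp only [Pi.add_apply, Pi.smul_apply, smul_eq_mul, add_mul, mul_assoc, Finset.sum_add_distrib,
      ← Finset.mul_sum, hdP, e0, e1]
    ring
  simpa [Pi.single_apply] using hall (Pi.single i 1)

theorem finrank_span_pair {a b : Fin 5 → ℂ} (h : LinearIndependent ℂ ![a, b]) :
    Module.finrank ℂ (Submodule.span ℂ ({a, b} : Set (Fin 5 → ℂ))) = 2 := by
  have e : Set.range ![a, b] = {a, b} := by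
    ext x
    simp [Fin.exists_fin_two, eq_comm, or_comm]
  have := finrank_span_eq_card h
  rw [e, Fintype.card_fin] at this
  exact this

/-- The finiteness statement. -/
theorem exists_finite_meeting
    (f : MvPolynomial (Fin 5) ℂ) (hf : f.IsHomogeneous 3)
    (hsm : ∀ u : Fin 5 → ℂ, u ≠ 0 → eval u f = 0 → ∃ i : Fin 5, eval u (pderiv i f) ≠ 0)
    (L₁ L₂ : Submodule ℂ (Fin 5 → ℂ)) (h₁ : Module.finrank ℂ ↥L₁ = 2) (h₂ : Module.finrank ℂ ↥L₂ = 2)
    (hf₁ : ∀ u ∈ L₁, eval u f = 0) (hf₂ : ∀ u ∈ L₂, eval u f = 0)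
    (hne : L₁ ≠ L₂) (hmeet : L₁ ⊓ L₂ ≠ ⊥) :
    ∃ G : Set (Submodule ℂ (Fin 5 → ℂ)), G.Finite ∧ (∀ g ∈ G, Module.finrank ℂ ↥g = 1 ∧ g ≤ L₁) ∧
      ∀ L : Submodule ℂ (Fin 5 → ℂ), Module.finrank ℂ ↥L = 2 → (∀ u ∈ L, eval u f = 0) →
        L ⊓ L₁ ≠ ⊥ → L ⊓ L₂ ≠ ⊥ → ∃ g ∈ G, g ≤ L := by
  classical
  have line : ∀ (A : Submodule ℂ (Fin 5 → ℂ)), Module.finrank ℂ A = 2 → ∀ B : Submodule ℂ (Fin 5 → ℂ),
      B ≤ A → B ≠ A → B ≠ ⊥ → Module.finrank ℂ B = 1 := by
    intro A hA B hBA hBne hB0
    have h1 := Submodule.finrank_lt_finrank_of_lt (lt_of_le_of_ne hBA hBne)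
    have h2 : Module.finrank ℂ B ≠ 0 := fun h => hB0 (Submodule.finrank_eq_zero.1 h)
    omega
  let p := L₁ ⊓ L₂
  have hp : Module.finrank ℂ p = 1 := line L₁ h₁ p inf_le_left (fun e => hne
    (Submodule.eq_of_le_of_finrank_eq (e ▸ inf_le_right) (h₁.trans h₂.symm))) hmeet
  obtain ⟨p₀, hp₀, hp₀0⟩ := Submodule.exists_mem_ne_zero_of_ne_bot hmeet
  have hspan : p = Submodule.span ℂ {p₀} := (Submodule.eq_of_le_of_finrank_eq
    ((Submodule.span_singleton_le_iff_mem _ _).2 hp₀) (by rw [finrank_span_singleton hp₀0, hp])).symm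
  let good : Submodule ℂ (Fin 5 → ℂ) → Prop := fun L => Module.finrank ℂ L = 2 ∧ (∀ u ∈ L, eval u f = 0) ∧
    L ⊓ L₁ ≠ ⊥ ∧ L ⊓ L₂ ≠ ⊥ ∧ p₀ ∉ L
  have huniq : ∀ L L', good L → good L' → L = L' := by
    rintro L L' ⟨hL2, hLf, hLa, hLb, hLp⟩ ⟨hL2', hLf', hLa', hLb', hLp'⟩
    obtain ⟨w₁, ⟨hw₁L, hw₁⟩, hw₁0⟩ := Submodule.exists_mem_ne_zero_of_ne_bot hLa
    obtain ⟨w₂, ⟨hw₂L, hw₂⟩, hw₂0⟩ := Submodule.exists_mem_ne_zero_of_ne_bot hLb
    obtain ⟨w₁', ⟨hw₁L', hw₁'⟩, hw₁0'⟩ := Submodule.exists_mem_ne_zero_of_ne_bot hLa'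
    obtain ⟨w₂', ⟨hw₂L', hw₂'⟩, hw₂0'⟩ := Submodule.exists_mem_ne_zero_of_ne_bot hLb'
    have hind : ∀ a b c : ℂ, a • w₁ + b • w₂ + c • p₀ = 0 → a = 0 ∧ b = 0 ∧ c = 0 := by
      intro a b c h
      have ha : a • w₁ ∈ p := by
        refine ⟨L₁.smul_mem a hw₁, ?_⟩
        have e : a • w₁ = -(b • w₂ + c • p₀) := by
          rw [eq_neg_iff_add_eq_zero, ← add_assoc]; exact h
        rw [e]
        exact L₂.neg_mem (L₂.add_mem (L₂.smul_mem b hw₂) (L₂.smul_mem c hp₀.2))
      have ha0 : a = 0 := by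
        by_contra ha0
        have : w₁ ∈ p := by simpa [smul_smul, ha0] using p.smul_mem a⁻¹ ha
        rw [hspan, Submodule.mem_span_singleton] at this
        obtain ⟨r, hr⟩ := this
        have hr0 : r ≠ 0 := fun e => hw₁0 (by rw [← hr, e, zero_smul])
        exact hLp (by simpa [← hr, smul_smul, hr0] using L.smul_mem r⁻¹ hw₁L)
      subst ha0
      rw [zero_smul, zero_add] at h
      have hb0 : b = 0 := by
        by_contra hb0
        have : w₂ = (-(b⁻¹ * c)) • p₀ := by
          have e : b • w₂ = -(c • p₀) := eq_neg_of_add_eq_zero_left h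
          have e' := congrArg (fun z => b⁻¹ • z) e
          simpa [smul_smul, hb0, neg_smul] using e'
        have hr0 : (-(b⁻¹ * c)) ≠ 0 := fun e => hw₂0 (by rw [this, e, zero_smul])
        have h5 := L.smul_mem (-(b⁻¹ * c))⁻¹ (show w₂ ∈ L from hw₂L)
        rw [this, smul_smul, inv_mul_cancel₀ hr0, one_smul] at h5
        exact hLp h5
      subst hb0
      rw [zero_smul, zero_add] at h
      exact ⟨rfl, rfl, (smul_eq_zero.1 h).resolve_right hp₀0⟩
    have hs₁ : L₁ = Submodule.span ℂ {w₁, p₀} := by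
      refine (Submodule.eq_of_le_of_finrank_eq (Submodule.span_le.2 (Set.insert_subset hw₁
        (Set.singleton_subset_iff.2 hp₀.1))) ?_).symm
      have hli : LinearIndependent ℂ ![w₁, p₀] := LinearIndependent.pair_iff.2 fun a c h => by
        obtain ⟨ha, -, hc⟩ := hind a 0 c (by simpa using h)
        exact ⟨ha, hc⟩
      rw [finrank_span_pair hli, h₁]
    have hs₂ : L₂ = Submodule.span ℂ {w₂, p₀} := by
      refine (Submodule.eq_of_le_of_finrank_eq (Submodule.span_le.2 (Set.insert_subset hw₂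
        (Set.singleton_subset_iff.2 hp₀.2))) ?_).symm
      have hli : LinearIndependent ℂ ![w₂, p₀] := LinearIndependent.pair_iff.2 fun b c h => by
        obtain ⟨-, hb, hc⟩ := hind 0 b c (by simpa using h)
        exact ⟨hb, hc⟩
      rw [finrank_span_pair hli, h₂]
    rw [SetLike.mem_coe, hs₁, Submodule.mem_span_pair] at hw₁'
    rw [SetLike.mem_coe, hs₂, Submodule.mem_span_pair] at hw₂'
    obtain ⟨x, z, rfl⟩ := hw₁'
    obtain ⟨y, z', rfl⟩ := hw₂'
    have hx : x ≠ 0 := fun e => by
      subst e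
      rw [zero_smul, zero_add] at hw₁L' hw₁0'
      have hz : z ≠ 0 := fun e => hw₁0' (by rw [e, zero_smul])
      exact hLp' (by simpa [smul_smul, hz] using L'.smul_mem z⁻¹ hw₁L')
    have hy : y ≠ 0 := fun e => by
      subst e
      rw [zero_smul, zero_add] at hw₂L' hw₂0'
      have hz : z' ≠ 0 := fun e => hw₂0' (by rw [e, zero_smul])
      exact hLp' (by simpa [smul_smul, hz] using L'.smul_mem z'⁻¹ hw₂L')
    by_cases hzz : z = 0 ∧ z' = 0
    · obtain ⟨rfl, rfl⟩ := hzz
      simp only [zero_smul, add_zero] at hw₁L' hw₂L'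
      have a1 : w₁ ∈ L' := by simpa [smul_smul, hx] using L'.smul_mem x⁻¹ hw₁L'
      have a2 : w₂ ∈ L' := by simpa [smul_smul, hy] using L'.smul_mem y⁻¹ hw₂L'
      have hli : LinearIndependent ℂ ![w₁, w₂] := LinearIndependent.pair_iff.2 fun a b h => by
        obtain ⟨ha, hb, -⟩ := hind a b 0 (by simpa using h)
        exact ⟨ha, hb⟩
      have hd : Module.finrank ℂ (Submodule.span ℂ ({w₁, w₂} : Set (Fin 5 → ℂ))) = 2 := by
        exact finrank_span_pair hli
      rw [← Submodule.eq_of_le_of_finrank_eq (Submodule.span_le.2 (Set.insert_subset hw₁L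
          (Set.singleton_subset_iff.2 hw₂L))) (hd.trans hL2.symm),
        ← Submodule.eq_of_le_of_finrank_eq (Submodule.span_le.2 (Set.insert_subset a1
          (Set.singleton_subset_iff.2 a2))) (hd.trans hL2'.symm)]
    · exfalso
      let φ : (Fin 3 → ℂ) →ₗ[ℂ] (Fin 5 → ℂ) :=
        { toFun := fun v => v 0 • w₁ + v 1 • w₂ + v 2 • p₀
          map_add' := fun a b => by simp [add_smul]; abel
          map_smul' := fun r a => by simp [smul_add, smul_smul] }
      have hφ : Function.Injective φ := (injective_iff_map_eq_zero φ).2 fun v hv => by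
        obtain ⟨a, b, c⟩ := hind _ _ _ hv
        funext i
        fin_cases i <;> simp [a, b, c]
      refine no_plane f hf hsm φ hφ (plane_zero (V := Fin 5 → ℂ) φ hf (z / x) (z' / y) ?_ ?_)
      · simp only [ne_eq, div_eq_zero_iff, hx, hy, or_false]
        tauto
      · intro v hv
        show eval (v 0 • w₁ + v 1 • w₂ + v 2 • p₀) f = 0
        rcases hv with h | h | h | h
        · rw [h, zero_smul, zero_add]
          exact hf₂ _ (L₂.add_mem (L₂.smul_mem _ hw₂) (L₂.smul_mem _ hp₀.2))
        · rw [h, zero_smul, add_zero]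
          exact hf₁ _ (L₁.add_mem (L₁.smul_mem _ hw₁) (L₁.smul_mem _ hp₀.1))
        · rw [h, zero_smul, add_zero]
          exact hLf _ (L.add_mem (L.smul_mem _ hw₁L) (L.smul_mem _ hw₂L))
        · have e : v 0 • w₁ + v 1 • w₂ + v 2 • p₀ = (v 0 / x) • (x • w₁ + z • p₀) + (v 1 / y) • (y • w₂ + z' • p₀) := by
            rw [h, smul_add, smul_add, smul_smul, smul_smul, smul_smul, smul_smul, add_smul, div_mul_cancel₀ _ hx,
              div_mul_cancel₀ _ hy, show z / x * v 0 = v 0 / x * z by ring, show z' / y * v 1 = v 1 / y * z' by ring]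
            abel
          rw [e]
          exact hLf' _ (L'.add_mem (L'.smul_mem _ hw₁L') (L'.smul_mem _ hw₂L'))
  refine ⟨{g | g = p ∨ ∃ L, good L ∧ g = L ⊓ L₁}, ?_, ?_, ?_⟩
  · have hsub : {L | good L}.Subsingleton := fun L hL L' hL' => huniq L L' hL hL'
    refine ((Set.finite_singleton p).union (hsub.finite.image fun L => L ⊓ L₁)).subset ?_
    rintro g (rfl | ⟨L, hL, rfl⟩)
    · exact Or.inl rfl
    · exact Or.inr ⟨L, hL, rfl⟩
  · rintro g (rfl | ⟨L, ⟨hL2, -, hLa, -, hLp⟩, rfl⟩)
    · exact ⟨hp, inf_le_left⟩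
    · exact ⟨line L₁ h₁ _ inf_le_right (fun e => hLp (inf_le_left (a := L) (b := L₁) (e.symm.le hp₀.1))) hLa, inf_le_right⟩
  · intro L hL2 hLf hLa hLb
    by_cases hLp : p₀ ∈ L
    · exact ⟨p, Or.inl rfl, hspan.le.trans ((Submodule.span_singleton_le_iff_mem _ _).2 hLp)⟩
    · exact ⟨L ⊓ L₁, Or.inr ⟨L, ⟨hL2, hLf, hLa, hLb, hLp⟩, rfl⟩, inf_le_left⟩

end Groth.Agent.CubicLines
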